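import Cfsg.Agent.OddHalf.CaseC.Row
import Cfsg.Agent.OddHalf.D8.HS.Stand

/-!
# The common end of the cases (M) and (C) of D8: a normal component of `C_G(z)` containing `z`

`X = C_G(z)`, `M` a component of `X` with `z ∈ M`.

`false_of_cent`: `C_X(M)` is contained in a cyclic group (then `M` is standard and `Iface.Intr2` applies).

`false_of_out_sign`: `M` is normal in `X`, `t ∉ M C_X(M)` and no homomorphism `X → {±1}` maps `t` to `-1`.

`main`: one of the two alternatives holds.
-/

set_option autoImplicit false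

namespace Cfsg.Agent.OddHalf.CaseC.EndComp

open Subgroup Cfsg
open Cfsg.Agent.OddHalf.Iface
open Cfsg.Agent.OddHalf.CaseM (rank_two compOf_map)
open Cfsg.Agent.SignalizersComponents.Components
open Cfsg.Agent.Schreier.Basic

universe u

variable {G : Type u} [Group G]

/-- `t ∈ M`, `C_X(M)` cyclic -/
theorem false_of_cent (I : Intr2.{u}) (C : Ctx G) {z : G} (hz : orderOf z = 2)
    {M : Subgroup ↥(centralizer ({z} : Set G))} (hM : IsComponent M)
    (hzM : (⟨z, mem_centralizer_singleton_iff.2 rfl⟩ : ↥(centralizer ({z} : Set G))) ∈ M)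
    {y : ↥(centralizer ({z} : Set G))}
    (hc : centralizer (M : Set ↥(centralizer ({z} : Set G))) ≤ zpowers y) : False := by
  have hcyc : IsCyclic ↥(centralizer (M : Set ↥(centralizer ({z} : Set G)))) :=
    isCyclic_of_injective (inclusion hc) (inclusion_injective hc)
  obtain ⟨g, hg⟩ := hcyc.exists_generator
  refine D8.HS.Stand.false_of_cyclic I C hz hM hzM (y := g) (le_antisymm ?_ ?_)
  · intro x hx
    obtain ⟨n, hn⟩ := mem_zpowers_iff.1 (hg ⟨x, hx⟩)
    exact mem_zpowers_iff.2 ⟨n, congrArg Subtype.val hn⟩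
  · rw [zpowers_le]
    exact g.2

/-- `t ∉ M C_X(M)` -/
theorem false_of_out_sign (C : Ctx G) (hGW : SylowSp4.Hyps.GW.{u}) (hS : CaseM.IntrSign.{u})
    {z : G} (hz : orderOf z = 2)
    {M : Subgroup ↥(centralizer ({z} : Set G))} (hM : IsComponent M) (hMn : M.Normal)
    (hzM : (⟨z, mem_centralizer_singleton_iff.2 rfl⟩ : ↥(centralizer ({z} : Set G))) ∈ M)
    {t : ↥(centralizer ({z} : Set G))} (htt : t * t = 1)
    (hTR : ∀ f : ↥(centralizer ({z} : Set G)) →* ℤˣ, f t ≠ -1)
    (htM : t ∉ M ⊔ centralizer (M : Set ↥(centralizer ({z} : Set G)))) : False := by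
  have hfin := C.fin
  have hsimp := C.simple
  have hcomp := compOf_map hM
  have hzM' : z ∈ M.map (centralizer ({z} : Set G)).subtype := ⟨_, hzM, rfl⟩
  have hrk := rank_two C hGW hz hcomp hzM'
  have hq := Soft.CompOf.quasisimple hcomp
  have hnt := Soft.CompOf.ne_top C.na hz hcomp
  have hkn := Known.known_quotient C.kproper _ hnt _ hq.2 (Soft.quo_na hq)
  have hn : ∀ g ∈ centralizer ({z} : Set G), ∀ x ∈ M.map (centralizer ({z} : Set G)).subtype,
      g * x * g⁻¹ ∈ M.map (centralizer ({z} : Set G)).subtype := by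
    rintro g hg _ ⟨x, hx, rfl⟩
    exact ⟨⟨g, hg⟩ * x * ⟨g, hg⟩⁻¹, hMn.conj_mem x hx _, rfl⟩
  have hperf : ⁅M.map (centralizer ({z} : Set G)).subtype,
      M.map (centralizer ({z} : Set G)).subtype⁆ = M.map (centralizer ({z} : Set G)).subtype := by
    rw [← map_commutator, isPerfect_iff.1 hM.2.1]
  have htt' : (t : G) * t = 1 := congrArg Subtype.val htt
  obtain ⟨lam, hlam, -, -⟩ := Table.exists_lam_sub hcomp.1 hn hperf (MulEquiv.refl _)
    (hS G C _ z hz hcomp hzM' hrk hq.2 (Soft.quo_na hq) hkn) t.2 (by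
      intro x _
      rw [htt', one_mul, mul_one]) (by
      rintro _ ⟨x, hx, rfl⟩ c hc hcx e
      apply htM
      have e1 : t = x * ⟨c, hc⟩ := Subtype.ext e
      rw [e1]
      refine mul_mem (mem_sup_left hx) (mem_sup_right ?_)
      rw [mem_centralizer_iff]
      intro y hy
      exact Subtype.ext (hcx y ⟨y, hy, rfl⟩).symm)
  exact hTR lam hlam

/-- **the end** -/
theorem main (C : Ctx G) (hGW : SylowSp4.Hyps.GW.{u}) (I : Intr2.{u}) (hS : CaseM.IntrSign.{u})
    {z : G} (hz : orderOf z = 2)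
    {M : Subgroup ↥(centralizer ({z} : Set G))} (hM : IsComponent M) (hMn : M.Normal)
    (hzM : (⟨z, mem_centralizer_singleton_iff.2 rfl⟩ : ↥(centralizer ({z} : Set G))) ∈ M)
    {t y : ↥(centralizer ({z} : Set G))} (htt : t * t = 1)
    (hTR : ∀ f : ↥(centralizer ({z} : Set G)) →* ℤˣ, f t ≠ -1)
    (h : centralizer (M : Set ↥(centralizer ({z} : Set G))) ≤ zpowers y ∨
      t ∉ M ⊔ centralizer (M : Set ↥(centralizer ({z} : Set G)))) : False := by
  rcases h with h | h
  · exact false_of_cent I C hz hM hzM h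
  · exact false_of_out_sign C hGW hS hz hM hMn hzM htt hTR h

end Cfsg.Agent.OddHalf.CaseC.EndComp
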