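import Cfsg.Agent.OddHalf.CaseC.Glue
import Cfsg.Agent.OddHalf.CaseM.End
import Cfsg.Agent.OddHalf.Front.FrontOuter

/-!
# Case (C) of D8: the row (helper971)

`row_of`: if every group `K` with `X K` has trivial centre and a sheet of type (C), then `Row X`.
-/

set_option autoImplicit false

namespace Cfsg.Agent.OddHalf.CaseC

open Subgroup Cfsg
open Cfsg.Agent.OddHalf.Iface
open Cfsg.Agent.OddHalf.Front.FE Cfsg.Agent.OddHalf.D8 Cfsg.Agent.OddHalf.D8.Sheet Cfsg.Agent.OddHalf.D8.GlueE
open Cfsg.Agent.OddHalf.D8.Front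
open Cfsg.Agent.Cit (cj mem_cj conj_mem_cj conj_mem_cj_iff)
open Cfsg.Agent.OddHalf.CaseM (toX mem_toX map_le_cent rank_two even_card sch_of_comp compOf_map
  le_sup_centralizer)
open Cfsg.Agent.SignalizersComponents.Components
open Cfsg.Agent.Schreier.Basic

open scoped commutatorElement

universe u

variable {G : Type u} [Group G]

/-- a component of `C_G(z)` does not contain `z` as its only involution -/
theorem not_unique (C : Ctx G) (hGW : SylowSp4.Hyps.GW.{u}) {z : G} (hz : orderOf z = 2)
    {M : Subgroup ↥(centralizer ({z} : Set G))} (hM : IsComponent M)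
    (hzM : (⟨z, mem_centralizer_singleton_iff.2 rfl⟩ : ↥(centralizer ({z} : Set G))) ∈ M)
    (huniq : ∀ v ∈ M, v * v = 1 → v = 1 ∨ v = (⟨z, mem_centralizer_singleton_iff.2 rfl⟩ :
      ↥(centralizer ({z} : Set G)))) : False := by
  have hfin := C.fin
  have hcomp := compOf_map hM
  refine rank_two C hGW hz hcomp ⟨_, hzM, rfl⟩ ?_
  intro E _ hE
  have hEz : ∀ x ∈ E, x = 1 ∨ ((x : ↥(M.map (centralizer ({z} : Set G)).subtype)) : G) = z := by
    intro x hx
    obtain ⟨y, hy, hyx⟩ := x.2
    have h1 : ((x : ↥(M.map (centralizer ({z} : Set G)).subtype)) : G) *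
        ((x : ↥(M.map (centralizer ({z} : Set G)).subtype)) : G) = 1 := by
      have := congrArg Subtype.val (hE x hx)
      rw [pow_two] at this
      exact this
    have hyx' : (y : G) = ((x : ↥(M.map (centralizer ({z} : Set G)).subtype)) : G) := hyx
    rcases huniq y hy (by
      apply Subtype.ext
      change (y : G) * y = 1
      rw [hyx']; exact h1) with e | e
    · left
      apply Subtype.ext
      rw [← hyx', e]; rfl
    · right
      rw [← hyx', e]
  have hle : E ≤ zpowers (⟨z, ⟨_, hzM, rfl⟩⟩ : ↥(M.map (centralizer ({z} : Set G)).subtype)) := by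
    intro x hx
    rcases hEz x hx with e | e
    · rw [e]; exact one_mem _
    · have : x = ⟨z, ⟨_, hzM, rfl⟩⟩ := Subtype.ext e
      rw [this]; exact mem_zpowers _
  have hcard := Subgroup.card_le_of_le hle
  rw [Nat.card_zpowers] at hcard
  have ho : orderOf (⟨z, ⟨_, hzM, rfl⟩⟩ : ↥(M.map (centralizer ({z} : Set G)).subtype)) = 2 := by
    rw [← Subgroup.orderOf_coe]; exact hz
  rw [ho] at hcard
  exact hcard

/-- the Schreier property, in the form used by `CaseC.Hyp.main` -/
theorem sch_le (C : Ctx G) (hSch : Cfsg.Agent.Schreier.Cases.SchFor.{u} @IsKnownSimple') {z : G}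
    (hz : orderOf z = 2) {P : Subgroup ↥(centralizer ({z} : Set G))} (hP : ⁅P, P⁆ = P)
    (M : Subgroup ↥(centralizer ({z} : Set G))) (hM : IsComponent M) (hn : ∀ p ∈ P, cj p M = M) :
    P ≤ M ⊔ centralizer (M : Set ↥(centralizer ({z} : Set G))) := by
  have hfin := C.fin
  have hcomp := compOf_map hM
  have hSchM : Sch (↥M ⧸ center ↥M) := by
    have e : ↥(M.map (centralizer ({z} : Set G)).subtype) ≃* ↥M :=
      (M.equivMapOfInjective _ (centralizer ({z} : Set G)).subtype_injective).symm
    exact Cfsg.Agent.Schreier.Balance.sch_center_quotient e (sch_of_comp C hSch hz hcomp)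
  exact le_sup_centralizer hM.2.1 hSchM hP hn

/-- components have even order -/
theorem even_comp (C : Ctx G) {z : G} (hz : orderOf z = 2) (M : Subgroup ↥(centralizer ({z} : Set G)))
    (hM : IsComponent M) : 2 ∣ Nat.card M := by
  have h1 := even_card C hz (compOf_map hM)
  rwa [Nat.card_congr (M.equivMapOfInjective _
    (centralizer ({z} : Set G)).subtype_injective).toEquiv.symm] at h1

variable {K : Subgroup G} {t q : G} {z : K} {P : Subgroup K}

/-- **the contradiction** -/
theorem false_of_out (C : Ctx G) (hSch : Cfsg.Agent.Schreier.Cases.SchFor.{u} @IsKnownSimple')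
    (hGW : SylowSp4.Hyps.GW.{u}) (hI : CaseM.Intr.{u}) (hS : CaseM.IntrSign.{u})
    (o : Out K t q z P) (sh : SheetC z P) : False := by
  have hfin := C.fin
  have hsimp := C.simple
  have hz := MainE.orderOf_z o.emb
  have h := hyp2 o sh (MainE.core_eq_bot C hz)
  have htH : t ∈ centralizer ({(z : G)} : Set G) := mem_centralizer_singleton_iff.2 o.emb.comm
  obtain ⟨M, hM, hMn, hP, hzM0, hcase⟩ := h.main2 (fun M hM hn => sch_le C hSch hz h.Pperf M hM hn)
    (fun N hN => even_comp C hz N hN) (fun N hN hzN hu => not_unique C hGW hz hN hzN hu)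
  have hcomp := compOf_map hM
  have hzM : (z : G) ∈ M.map (centralizer ({(z : G)} : Set G)).subtype := ⟨_, hzM0, rfl⟩
  have hrk := rank_two C hGW hz hcomp hzM
  have hq := Soft.CompOf.quasisimple hcomp
  have hnt := Soft.CompOf.ne_top C.na hz hcomp
  have hkn := Known.known_quotient C.kproper _ hnt _ hq.2 (Soft.quo_na hq)
  rcases hcase with ⟨htM, hcM⟩ | htM
  · -- `t ∈ M`
    have hnc : ∃ x ∈ M.map (centralizer ({(z : G)} : Set G)).subtype, t * x ≠ x * t := by
      by_contra hcon
      push Not at hcon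
      have h1 : (⟨t, htH⟩ : ↥(centralizer ({(z : G)} : Set G))) ∈
          centralizer (M : Set ↥(centralizer ({(z : G)} : Set G))) := by
        rw [mem_centralizer_iff]
        intro x hx
        exact Subtype.ext (hcon x ⟨x, hx, rfl⟩).symm
      rcases hcM _ h1 with e | e
      · exact h.t1 e
      · exact h.t_ne_z e
    obtain ⟨-, hcent, hnorm, hstd⟩ := Table.lemmaS (D₀ := (P.map K.subtype : Subgroup G)) hz o.emb.st.tt
      hcomp.1 hcomp.2 hzM (by
        intro d hd
        have hdH : d ∈ centralizer ({(z : G)} : Set G) := map_le_cent o.emb.sh.cen hd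
        exact ⟨⟨d, hdH⟩, hP hd, rfl⟩) (by
        intro y hyz hyt hyP
        have hyH : y ∈ centralizer ({(z : G)} : Set G) := mem_centralizer_singleton_iff.2 hyz
        rcases h.cP ⟨y, hyH⟩ (Subtype.ext hyt) (by
          intro r hr
          exact Subtype.ext (hyP r hr)) with e | e | e | e
        · exact Or.inl (congrArg Subtype.val e)
        · exact Or.inr (Or.inr (Or.inl (congrArg Subtype.val e)))
        · exact Or.inr (Or.inl (congrArg Subtype.val e))
        · exact Or.inr (Or.inr (Or.inr (congrArg Subtype.val e))))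
      ⟨t, ⟨_, htM, rfl⟩, fun x _ => rfl⟩ hnc
    exact hI G C _ z
      { hz := hz
        comp := hcomp
        zM := hzM
        cent := hcent
        norm := hnorm
        std := hstd
        ne_top := hnt
        z2 := Soft.CompOf.center_isPGroup (C.bal _ hz) hcomp
        rk2 := hrk
        simple := hq.2
        quo_na := Soft.quo_na hq
        known := hkn }
  · -- `t ∉ M C(M)`
    have hn : ∀ g ∈ centralizer ({(z : G)} : Set G), ∀ x ∈ M.map (centralizer ({(z : G)} : Set G)).subtype,
        g * x * g⁻¹ ∈ M.map (centralizer ({(z : G)} : Set G)).subtype := by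
      rintro g hg _ ⟨x, hx, rfl⟩
      exact ⟨⟨g, hg⟩ * x * ⟨g, hg⟩⁻¹, hMn.conj_mem x hx _, rfl⟩
    have hperf : ⁅M.map (centralizer ({(z : G)} : Set G)).subtype,
        M.map (centralizer ({(z : G)} : Set G)).subtype⁆ = M.map (centralizer ({(z : G)} : Set G)).subtype := by
      rw [← map_commutator, isPerfect_iff.1 hM.2.1]
    obtain ⟨lam, hlam, -, -⟩ := Table.exists_lam_sub hcomp.1 hn hperf (MulEquiv.refl _)
      (hS G C _ z hz hcomp hzM hrk hq.2 (Soft.quo_na hq) hkn) htH (by
        intro x _
        rw [o.emb.st.tt, one_mul, mul_one]) (by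
        rintro _ ⟨x, hx, rfl⟩ c hc hcx e
        apply htM
        have e1 : (⟨t, htH⟩ : ↥(centralizer ({(z : G)} : Set G))) = x * ⟨c, hc⟩ := Subtype.ext e
        rw [e1]
        refine mul_mem (mem_sup_left hx) (mem_sup_right ?_)
        rw [mem_centralizer_iff]
        intro y hy
        exact Subtype.ext (hcx y ⟨y, hy, rfl⟩).symm)
    exact h.no_sign lam hlam

/-- **the row of a sheet of type (C)** -/
theorem row_of (hSch : Cfsg.Agent.Schreier.Cases.SchFor.{u} @IsKnownSimple')
    (hGW : SylowSp4.Hyps.GW.{u}) (hI : CaseM.Intr.{u}) (hS : CaseM.IntrSign.{u})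
    {X : (K : Type u) → [Group K] → Prop}
    (hX : ∀ (K : Type u) [Group K], Finite K → X K → center K = ⊥ ∧ ∃ (z : K) (P : Subgroup K), SheetC z P) :
    Rows.Row.{u} X := by
  intro G _ C K S hcyc hK
  have hfin := C.fin
  obtain ⟨hcen, z, P, sh⟩ := hX K inferInstance hK
  obtain ⟨t, q, st⟩ := exists_start C S hcyc hcen
  have h : Emb K t q z P := ⟨st, sh.basic⟩
  exact false_of_out C hSch hGW hI hS (Front.FrontOuter.out_of_emb C h) sh

end Cfsg.Agent.OddHalf.CaseC
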