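import Cfsg.Agent.OddHalf.CaseC.Main

/-!
# Case (C) of D8, `Z(P) = {1, z}` (helper971)

`Hyp2 z t P`: `Hyp`, the centralizer of `P` in `C_X(t)` is `{1, z, t, tz}`, every automorphism of `P` is inner, some
element of `X` maps `t` to `t z`, and `t` lies in the commutator subgroup of `X`.

`main2`: there is a normal component `M ≥ P` of `X`, and either `t ∈ M` and `C_X(M) = {1, z}`, or
`t ∉ M C_X(M)`.
-/

set_option autoImplicit false
set_option linter.unusedSectionVars false

namespace Cfsg.Agent.OddHalf.CaseC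

open Subgroup Cfsg
open scoped commutatorElement
open Cfsg.Agent.SignalizersComponents.Components
open Cfsg.Agent.Cit (cj mem_cj conj_mem_cj conj_mem_cj_iff cj_mul cj_one)

/-- Thompson transfer, as a sign -/
theorem exists_sign_of_index_two {B : Type*} [Group B] [Finite B] {z t : B} (hz : z * z = 1) (hz1 : z ≠ 1)
    (ht : t * t = 1) (ht1 : t ≠ 1) (htz : t ≠ z) (hzc : ∀ x, x * z = z * x)
    (hC : ∀ x, x * t = t * x → x = 1 ∨ x = z ∨ x = t ∨ x = t * z) : ∃ f : B →* ℤˣ, f t = -1 := by
  classical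
  have : Fact (Nat.Prime 2) := ⟨Nat.prime_two⟩
  have hp : IsPGroup 2 (zpowers t) := IsPGroup.of_card (n := 1) (by
    rw [Nat.card_zpowers, pow_one]; exact orderOf_eq_prime (by rw [pow_two, ht]) ht1)
  have hpz : IsPGroup 2 (zpowers z) := IsPGroup.of_card (n := 1) (by
    rw [Nat.card_zpowers, pow_one]; exact orderOf_eq_prime (by rw [pow_two, hz]) hz1)
  obtain ⟨T, hT⟩ := hp.exists_le_sylow
  have htT : t ∈ (T : Subgroup B) := hT (mem_zpowers t)
  have hzT : z ∈ (T : Subgroup B) := by
    have h1 : IsPGroup 2 (((T : Subgroup B) ⊔ zpowers z : Subgroup B)) := by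
      have hn : (zpowers z).Normal := by
        refine ⟨fun n hn g => ?_⟩
        obtain ⟨k, rfl⟩ := mem_zpowers_iff.1 hn
        have : Commute g (z ^ k) := (show Commute g z from hzc g).zpow_right k
        rw [this.eq, mul_inv_cancel_right]
        exact zpow_mem (mem_zpowers z) k
      exact IsPGroup.to_sup_of_normal_right T.2 hpz
    have h2 := T.is_maximal' h1 le_sup_left
    rw [← h2]
    exact (le_sup_right : zpowers z ≤ _) (mem_zpowers z)
  obtain ⟨C, hCi, hCu⟩ := Cfsg.Agent.OddHalf.CaseM.exists_index_two (W := (T : Subgroup B)) T.2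
    (z := ⟨z, hzT⟩) (t := ⟨t, htT⟩) (Subtype.ext hz) (fun e => hz1 (congrArg Subtype.val e))
    (Subtype.ext ht) (fun e => ht1 (congrArg Subtype.val e)) (fun e => htz (congrArg Subtype.val e))
    (fun x => Subtype.ext (hzc x)) (by
      intro x hx
      rcases hC x (congrArg Subtype.val hx) with h | h | h | h
      · exact Or.inl (Subtype.ext h)
      · exact Or.inr (Or.inl (Subtype.ext h))
      · exact Or.inr (Or.inr (Or.inl (Subtype.ext h)))
      · exact Or.inr (Or.inr (Or.inr (Subtype.ext h))))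
  set Q : Subgroup B := C.map (T : Subgroup B).subtype with hQ
  have hQT : Q ≤ (T : Subgroup B) := map_subtype_le _
  have hQi : Q.relIndex (T : Subgroup B) = 2 := by
    rw [relIndex, hQ, subgroupOf, comap_map_eq_self_of_injective (subtype_injective _)]
    exact hCi
  have hnc : ∀ g : B, g * t * g⁻¹ ∉ Q := by
    rintro g ⟨x, hx, hxg⟩
    have hxx : x * x = 1 := by
      apply Subtype.ext
      have h1 : ((x : (T : Subgroup B)) : B) = g * t * g⁻¹ := hxg
      rw [Subgroup.coe_mul, h1]
      calc g * t * g⁻¹ * (g * t * g⁻¹) = g * (t * t) * g⁻¹ := by group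
        _ = 1 := by rw [ht]; group
    have h1 : ((x : (T : Subgroup B)) : B) = g * t * g⁻¹ := hxg
    rcases hCu x hx hxx with h | h
    · rw [h] at h1
      apply ht1
      have h2 : t = g⁻¹ * (g * t * g⁻¹) * g := by group
      rw [h2, ← h1]
      simp
    · rw [h] at h1
      apply htz
      have h2 : t = g⁻¹ * (g * t * g⁻¹) * g := by group
      have h3 : ((⟨z, hzT⟩ : (T : Subgroup B)) : B) = z := rfl
      rw [h3] at h1
      rw [h2, ← h1, mul_assoc, ← hzc g, inv_mul_cancel_left]
  obtain ⟨m, hm, hm'⟩ := Cfsg.Agent.Transfer.ThompsonTransfer.exists_index_eq T Q hQT hQi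
  exact Cfsg.Agent.Transfer.ThompsonTransfer.exists_hom_eq_neg_one Q hm hm' t (by rw [pow_two, ht]) hnc

/-- the additional hypotheses -/
structure Hyp2 {X : Type*} [Group X] (z t : X) (P : Subgroup X) : Prop extends Hyp z t P where
  cP : ∀ x, x * t = t * x → (∀ p ∈ P, x * p = p * x) → x = 1 ∨ x = z ∨ x = t ∨ x = t * z
  outP : ∀ β : MulAut P, ∃ p : P, β = MulAut.conj p
  swap : ∃ x, x * t * x⁻¹ = t * z
  com : t ∈ commutator X

namespace Hyp2

variable {X : Type*} [Group X] {z t : X} {P : Subgroup X}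

theorem no_sign (h : Hyp2 z t P) (f : X →* ℤˣ) : f t ≠ -1 := by
  intro h1
  have h2 : commutator X ≤ f.ker := Abelianization.commutator_subset_ker f
  have h3 := h2 h.com
  rw [MonoidHom.mem_ker, h1] at h3
  exact absurd h3 (by decide)

theorem t_ne_z (h : Hyp2 z t P) : t ≠ z := fun e => h.tP (e ▸ h.zP)

/-- a component centralised by `P` has `z` as its only involution -/
theorem unique [Finite X] (h : Hyp2 z t P) {N : Subgroup X} (hN : IsComponent N) (htN : cj t N = N)
    (hev : 2 ∣ Nat.card N) (hPN : P ≤ centralizer (N : Set X)) :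
    z ∈ N ∧ ∀ v ∈ N, v * v = 1 → v = 1 ∨ v = z := by
  refine Cfsg.Agent.OddHalf.CaseM.unique_involution h.zz h.z1 h.tt h.t1 h.t_ne_z h.zc hN hev ?_ ?_
  · intro x hx
    have := conj_mem_cj (g := t) hx
    rwa [htN] at this
  · intro x hx hxt
    exact h.cP x hxt (fun p hp => mem_centralizer_iff.1 (hPN hp) x hx)

/-- a subgroup which is a component and centralised by `t` is `P` -/
theorem le_P (h : Hyp2 z t P) {M : Subgroup X} (hM : IsComponent M) (hMt : ∀ x ∈ M, x * t = t * x) : M ≤ P :=
  h.res M (fun x hx => mem_centralizer_singleton_iff.2 (hMt x hx)) (component_commutator_self hM)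

/-- `P` is not a normal component -/
theorem false_of_normal [Finite X] (h : Hyp2 z t P) (hn : P.Normal) : False := by
  classical
  set B : Subgroup X := centralizer (P : Set X) with hB
  have hPB : ∀ p ∈ P, ∀ b ∈ B, p * b = b * p := fun p hp b hb => mem_centralizer_iff.1 hb p hp
  have htB : t ∈ B := by
    rw [hB, mem_centralizer_iff]
    exact fun p hp => h.Pt p hp
  have hzB : z ∈ B := by
    rw [hB, mem_centralizer_iff]
    exact fun p _ => h.zc p
  -- `X = P B`
  have hdec : ∀ x : X, ∃ p ∈ P, ∃ b ∈ B, x = p * b := by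
    intro x
    obtain ⟨p, hp⟩ := h.outP (MulAut.conjNormal x)
    refine ⟨p, p.2, (p : X)⁻¹ * x, ?_, by group⟩
    rw [hB, mem_centralizer_iff]
    intro y hy
    have h1 := congrArg (fun f : MulAut P => ((f ⟨y, hy⟩ : P) : X)) hp
    simp only [MulAut.conjNormal_apply, MulAut.conj_apply] at h1
    have h2 : x * y * x⁻¹ = (p : X) * y * (p : X)⁻¹ := h1
    calc y * ((p : X)⁻¹ * x) = (p : X)⁻¹ * ((p : X) * y * (p : X)⁻¹) * x := by group
      _ = (p : X)⁻¹ * (x * y * x⁻¹) * x := by rw [h2]
      _ = (p : X)⁻¹ * x * y := by group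
  have hcap : ∀ y, y ∈ P → y ∈ B → y = 1 ∨ y = z := by
    intro y hyP hyB
    rcases h.cP y (h.Pt y hyP) (fun p hp => (hPB p hp y hyB).symm) with e | e | e | e
    · exact Or.inl e
    · exact Or.inr e
    · exact absurd (e ▸ hyP) h.tP
    · exfalso
      apply h.tP
      have h1 : t = y * z := by rw [e, mul_assoc, h.zz, mul_one]
      rw [h1]
      exact P.mul_mem hyP h.zP
  -- the sign of `B`
  obtain ⟨f, hf⟩ := exists_sign_of_index_two (B := B) (z := ⟨z, hzB⟩) (t := ⟨t, htB⟩) (Subtype.ext h.zz)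
    (fun e => h.z1 (congrArg Subtype.val e)) (Subtype.ext h.tt) (fun e => h.t1 (congrArg Subtype.val e))
    (fun e => h.t_ne_z (congrArg Subtype.val e)) (fun x => Subtype.ext (h.zc x)) (by
      intro x hx
      rcases h.cP x (congrArg Subtype.val hx) (fun p hp => (hPB p hp x x.2).symm) with e | e | e | e
      · exact Or.inl (Subtype.ext e)
      · exact Or.inr (Or.inl (Subtype.ext e))
      · exact Or.inr (Or.inr (Or.inl (Subtype.ext e)))
      · exact Or.inr (Or.inr (Or.inr (Subtype.ext e))))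
  -- `f z = 1`
  obtain ⟨x, hx⟩ := h.swap
  obtain ⟨p, hp, b, hb, rfl⟩ := hdec x
  have hbt : b * t * b⁻¹ = t * z := by
    have h1 : p * (b * t * b⁻¹) * p⁻¹ = t * z := by rw [← hx]; group
    have h2 : b * t * b⁻¹ = p⁻¹ * (t * z) * p := by rw [← h1]; group
    rw [h2]
    calc p⁻¹ * (t * z) * p = p⁻¹ * (t * (z * p)) := by group
      _ = p⁻¹ * (t * p * z) := by rw [← h.zc p]; group
      _ = p⁻¹ * (p * t * z) := by rw [h.Pt p hp]
      _ = t * z := by group
  have hfz : f ⟨z, hzB⟩ = 1 := by
    have h1 : (⟨b, hb⟩ : B) * ⟨t, htB⟩ * (⟨b, hb⟩ : B)⁻¹ = ⟨t, htB⟩ * ⟨z, hzB⟩ := Subtype.ext hbt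
    have h2 := congrArg f h1
    rw [map_mul, map_mul, map_mul, map_inv, mul_comm (f ⟨b, hb⟩), mul_inv_cancel_right] at h2
    exact (mul_eq_left.1 h2.symm)
  -- extension to `X`
  choose pp hpp bb hbb hxx using hdec
  have hwd : ∀ (p : X) (_ : p ∈ P) (b : X) (hb : b ∈ B), f ⟨bb (p * b), hbb (p * b)⟩ = f ⟨b, hb⟩ := by
    intro p hp b hb
    have h1 := hxx (p * b)
    have h2 : bb (p * b) * b⁻¹ = (pp (p * b))⁻¹ * p := by
      have h3 : (pp (p * b))⁻¹ * (p * b) = bb (p * b) := by
        rw [inv_mul_eq_iff_eq_mul]; exact h1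
      calc bb (p * b) * b⁻¹ = (pp (p * b))⁻¹ * (p * b) * b⁻¹ := by rw [h3]
        _ = (pp (p * b))⁻¹ * p := by group
    have h3 : bb (p * b) * b⁻¹ = 1 ∨ bb (p * b) * b⁻¹ = z := by
      apply hcap
      · rw [h2]
        exact P.mul_mem (P.inv_mem (hpp _)) hp
      · exact B.mul_mem (hbb _) (B.inv_mem hb)
    have h4 : f ⟨bb (p * b) * b⁻¹, B.mul_mem (hbb _) (B.inv_mem hb)⟩ = 1 := by
      rcases h3 with e | e
      · have : (⟨bb (p * b) * b⁻¹, B.mul_mem (hbb _) (B.inv_mem hb)⟩ : B) = 1 := Subtype.ext e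
        rw [this, map_one]
      · have : (⟨bb (p * b) * b⁻¹, B.mul_mem (hbb _) (B.inv_mem hb)⟩ : B) = ⟨z, hzB⟩ := Subtype.ext e
        rw [this, hfz]
    have h5 : (⟨bb (p * b), hbb (p * b)⟩ : B) =
        ⟨bb (p * b) * b⁻¹, B.mul_mem (hbb _) (B.inv_mem hb)⟩ * ⟨b, hb⟩ := by
      apply Subtype.ext
      simp
    rw [h5, map_mul, h4, one_mul]
  let g : X →* ℤˣ :=
    { toFun := fun x => f ⟨bb x, hbb x⟩
      map_one' := by
        have h1 := hwd 1 P.one_mem 1 B.one_mem
        rw [one_mul] at h1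
        rw [h1]
        exact map_one f
      map_mul' := fun x y => by
        have h1 : x * y = (pp x * pp y) * (bb x * bb y) := by
          conv_lhs => rw [hxx x, hxx y]
          have h2 := hPB (pp y) (hpp y) (bb x) (hbb x)
          calc pp x * bb x * (pp y * bb y) = pp x * (bb x * pp y) * bb y := by group
            _ = pp x * (pp y * bb x) * bb y := by rw [h2]
            _ = _ := by group
        have h3 := hwd (pp x * pp y) (P.mul_mem (hpp x) (hpp y)) (bb x * bb y)
          (B.mul_mem (hbb x) (hbb y))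
        rw [← h1] at h3
        rw [h3, ← map_mul]
        rfl }
  have hg : g t = -1 := by
    have h1 := hwd 1 P.one_mem t htB
    rw [one_mul] at h1
    show f ⟨bb t, hbb t⟩ = -1
    rw [h1, hf]
  exact h.no_sign g hg

/-- **main theorem, case `Z(P) = {1, z}`** -/
theorem main2 [Finite X] (h : Hyp2 z t P)
    (hSch : ∀ M : Subgroup X, IsComponent M → (∀ p ∈ P, cj p M = M) →
      P ≤ M ⊔ centralizer (M : Set X))
    (hev : ∀ N : Subgroup X, IsComponent N → 2 ∣ Nat.card N)
    (hquat : ∀ N : Subgroup X, IsComponent N → z ∈ N → ¬ ∀ v ∈ N, v * v = 1 → v = 1 ∨ v = z) :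
    ∃ M : Subgroup X, IsComponent M ∧ M.Normal ∧ P ≤ M ∧ z ∈ M ∧
      ((t ∈ M ∧ ∀ y ∈ centralizer (M : Set X), y = 1 ∨ y = z) ∨
        t ∉ M ⊔ centralizer (M : Set X)) := by
  rcases h.toHyp.main hSch with ⟨lam, hlam⟩ | ⟨hall, M, hM, hPM⟩
  · exact absurd hlam (h.no_sign lam)
  -- `M` is the only component
  have huniq : ∀ N : Subgroup X, IsComponent N → N = M := by
    intro N hN
    by_contra hne
    have hPN : P ≤ centralizer (N : Set X) := by
      intro p hp
      rw [mem_centralizer_iff]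
      intro x hx
      exact Cfsg.Agent.Cit.Comp.comm_of_ne hN hM hne hx (hPM hp)
    obtain ⟨h1, h2⟩ := h.unique hN (hall N hN) (hev N hN) hPN
    exact hquat N hN h1 h2
  have hMn : M.Normal := by
    refine ⟨fun x hx g => ?_⟩
    have h1 := conj_mem_cj (g := g) hx
    rwa [huniq _ (Cfsg.Agent.Cit.Comp.isComponent_cj hM g)] at h1
  have hMY : ∀ x ∈ M, ∀ y ∈ centralizer (M : Set X), x * y = y * x := fun x hx y hy =>
    mem_centralizer_iff.1 hy x hx
  -- `t` does not centralise `M`
  have htY : ¬ ∀ x ∈ M, x * t = t * x := by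
    intro h1
    have h2 := h.le_P hM h1
    have h3 : M = P := le_antisymm h2 hPM
    rw [h3] at hMn
    exact h.false_of_normal hMn
  refine ⟨M, hM, hMn, hPM, hPM h.zP, ?_⟩
  by_cases htM : t ∈ M ⊔ centralizer (M : Set X)
  · left
    obtain ⟨m, hm, c, hc, hmc⟩ := Cfsg.Agent.Cit.Comp.mem_sup_comm hMY htM
    have hm' : m = t * c⁻¹ := by rw [← hmc, mul_inv_cancel_right]
    have hmt : m * t = t * m := by
      have mc : Commute m c := hMY m hm c hc
      rw [← hmc, mul_assoc, mc.eq]
    have hmP : ∀ p ∈ P, m * p = p * m := by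
      intro p hp
      have h2 : Commute p c := hMY p (hPM hp) c hc
      have h3 : Commute p t := h.Pt p hp
      have h4 : Commute p m := by rw [hm']; exact h3.mul_right h2.inv_right
      exact h4.symm.eq
    have htM' : t ∈ M := by
      rcases h.cP m hmt hmP with h2 | h2 | h2 | h2
      · exfalso
        apply htY
        intro x hx
        have h3 : t = c := by rw [← hmc, h2, one_mul]
        rw [h3]; exact hMY x hx c hc
      · exfalso
        apply htY
        intro x hx
        have h3 : t = z * c := by rw [← hmc, h2]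
        have h4 : Commute x z := h.zc x
        have h5 : Commute x c := hMY x hx c hc
        rw [h3]; exact (h4.mul_right h5).eq
      · rw [← h2]; exact hm
      · have h3 : t = m * z := by rw [h2, mul_assoc, h.zz, mul_one]
        rw [h3]; exact M.mul_mem hm (hPM h.zP)
    refine ⟨htM', fun y hy => ?_⟩
    have hyt : y * t = t * y := (hMY t htM' y hy).symm
    have hyP : ∀ p ∈ P, y * p = p * y := fun p hp => (hMY p (hPM hp) y hy).symm
    rcases h.cP y hyt hyP with h2 | h2 | h2 | h2
    · exact Or.inl h2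
    · exact Or.inr h2
    · exfalso
      apply htY
      intro x hx
      rw [← h2]; exact hMY x hx y hy
    · exfalso
      apply htY
      intro x hx
      have h3 : t = y * z := by rw [h2, mul_assoc, h.zz, mul_one]
      have h4 : Commute x y := hMY x hx y hy
      have h5 : Commute x z := h.zc x
      rw [h3]; exact (h4.mul_right h5).eq
  · exact Or.inr htM

end Hyp2

end Cfsg.Agent.OddHalf.CaseC
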