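import Cfsg.Agent.OddHalf.CaseC.End
import Cfsg.Agent.OddHalf.CaseM.GlueM
import Cfsg.Agent.OddHalf.D8.MainE

/-!
# Case (C) of D8: from the sheet of `K` to `X = C_G(z)` (helper971)

`SheetC z P`: `P = C_K(z)^∞` is quasisimple, `Z(P) = {1, z}`, the automorphisms of `K` trivial on `P` are induced by
`P`, the automorphisms of `P` are inner.
-/

set_option autoImplicit false

namespace Cfsg.Agent.OddHalf.CaseC

open Subgroup Cfsg
open Cfsg.Agent.OddHalf.Front.FE Cfsg.Agent.OddHalf.D8.Sheet Cfsg.Agent.OddHalf.D8.GlueE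
open Cfsg.Agent.OddHalf.D8.Front
open Cfsg.Agent.OddHalf.CaseM (toX mem_toX map_le_cent map_toX eP eP_coe)
open Cfsg.Agent.SignalizersComponents.Components

open scoped commutatorElement

universe u

/-- the sheet of type (C) -/
structure SheetC {K : Type*} [Group K] (z : K) (P : Subgroup K) : Prop where
  basic : Basic z P
  /-- `P` is quasisimple -/
  qs : IsQuasisimple P
  /-- `Z(P) = {1, z}` -/
  cen2 : ∀ x ∈ P, (∀ p ∈ P, x * p = p * x) → x = 1 ∨ x = z
  /-- automorphisms of `K` trivial on `P` are induced by `P` -/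
  autP : ∀ α : MulAut K, (∀ x ∈ P, α x = x) → ∃ p ∈ P, α = MulAut.conj p
  /-- automorphisms of `P` are inner -/
  outP : ∀ β : MulAut P, ∃ p : P, β = MulAut.conj p

variable {G : Type u} [Group G] {K : Subgroup G} {t q : G} {z : K} {P : Subgroup K}

/-- perfect subgroups of `C_X(t)` lie in `P` -/
theorem res' [Finite G] (h : Emb K t q z P)
    {S : Subgroup ↥(centralizer ({(z : G)} : Set G))} (hSt : ∀ x ∈ S, (x : G) * t = t * x)
    (hp : ⁅S, S⁆ = S) : S ≤ toX z P := by
  obtain ⟨n, hn⟩ := h.dser_eq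
  have h1 : S.map (centralizer ({(z : G)} : Set G)).subtype ≤
      centralizer ({t} : Set G) ⊓ centralizer ({(z : G)} : Set G) := by
    rintro _ ⟨x, hx, rfl⟩
    exact ⟨mem_centralizer_singleton_iff.2 (hSt x hx), x.2⟩
  have h2 := TR.dser_mono n h1
  have hp' : ⁅S.map (centralizer ({(z : G)} : Set G)).subtype,
      S.map (centralizer ({(z : G)} : Set G)).subtype⁆ =
      S.map (centralizer ({(z : G)} : Set G)).subtype := by rw [← map_commutator, hp]
  rw [TR.dser_of_perfect n hp', hn] at h2
  intro x hx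
  exact h2 ⟨x, hx, rfl⟩

/-- the hypotheses `CaseC.Hyp` for `X = C_G(z)` -/
theorem hyp [Finite G] (o : Out K t q z P) (hq : IsQuasisimple P)
    (hcore : pPrimeCore 2 ↥(centralizer ({(z : G)} : Set G)) = ⊥) :
    Hyp (X := ↥(centralizer ({(z : G)} : Set G)))
      ⟨z, mem_centralizer_singleton_iff.2 rfl⟩ ⟨t, mem_centralizer_singleton_iff.2 o.emb.comm⟩
      (toX z P) := by
  have h := o.emb
  set H : Subgroup G := centralizer ({(z : G)} : Set G) with hH
  have hmemH : ∀ x, x ∈ H ↔ x * z = z * x := fun x => mem_centralizer_singleton_iff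
  have hPz : ∀ x ∈ P, x * z = z * x := h.sh.cen
  have hPt : ∀ x ∈ P.map K.subtype, x * t = t * x := by
    rintro _ ⟨x, -, rfl⟩
    exact h.st.Kt x x.2
  set t' : H := ⟨t, mem_centralizer_singleton_iff.2 o.emb.comm⟩ with ht'
  set z' : H := ⟨z, mem_centralizer_singleton_iff.2 rfl⟩ with hz'
  have hct : ∀ x : H, x * t' = t' * x ↔ (x : G) * t = t * x := fun x =>
    ⟨fun e => congrArg Subtype.val e, fun e => Subtype.ext e⟩
  exact
    { zc := fun x => Subtype.ext ((hmemH x).1 x.2)
      zz := Subtype.ext h.zz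
      z1 := fun e => h.z1 (congrArg Subtype.val e)
      tt := Subtype.ext h.st.tt
      t1 := fun e => h.st.t1 (congrArg Subtype.val e)
      tP := by
        intro e
        obtain ⟨x, -, hx⟩ := mem_toX.1 e
        apply h.tK
        have : (t : G) = x := hx.symm
        rw [this]; exact x.2
      zP := ⟨z, h.sh.zP, rfl⟩
      Pt := fun x hx => Subtype.ext (hPt x hx)
      Pq := isQuasisimple_of_mulEquiv (eP z P hPz) hq
      Pn := fun x hx p hp => h.conj_P ((hct x).1 hx) ((hmemH x).1 x.2) hp
      res := fun S hSt hp => res' h (fun x hx => (hct x).1 (mem_centralizer_singleton_iff.1 (hSt hx))) hp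
      core := hcore }

/-- the hypotheses `CaseC.Hyp2` for `X = C_G(z)` -/
theorem hyp2 [Finite G] (o : Out K t q z P) (sh : SheetC z P)
    (hcore : pPrimeCore 2 ↥(centralizer ({(z : G)} : Set G)) = ⊥) :
    Hyp2 (X := ↥(centralizer ({(z : G)} : Set G)))
      ⟨z, mem_centralizer_singleton_iff.2 rfl⟩ ⟨t, mem_centralizer_singleton_iff.2 o.emb.comm⟩
      (toX z P) := by
  have h := o.emb
  have hh := hyp o sh.qs hcore
  set H : Subgroup G := centralizer ({(z : G)} : Set G) with hH
  have hmemH : ∀ x, x ∈ H ↔ x * z = z * x := fun x => mem_centralizer_singleton_iff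
  have hPz : ∀ x ∈ P, x * z = z * x := h.sh.cen
  set t' : H := ⟨t, mem_centralizer_singleton_iff.2 o.emb.comm⟩ with ht'
  set z' : H := ⟨z, mem_centralizer_singleton_iff.2 rfl⟩ with hz'
  have hct : ∀ x : H, x * t' = t' * x ↔ (x : G) * t = t * x := fun x =>
    ⟨fun e => congrArg Subtype.val e, fun e => Subtype.ext e⟩
  refine { toHyp := hh, cP := ?_, outP := ?_, swap := ?_, com := o.com }
  · intro x hx hxP
    have hxt := (hct x).1 hx
    have hxP' : ∀ p ∈ P, (x : G) * p = p * x := by
      intro p hp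
      have hpH : (p : G) ∈ H := (hmemH p).2 (congrArg Subtype.val (hPz p hp))
      exact congrArg Subtype.val (hxP ⟨p, hpH⟩ ⟨p, hp, rfl⟩)
    obtain ⟨p, hp, hpx⟩ := sh.autP (K.normalizerMonoidHom ⟨x, h.nor hxt⟩) (by
      intro p hp
      apply Subtype.ext
      rw [nmh_apply, hxP' p hp, mul_inv_cancel_right])
    -- `p ∈ Z(P)`
    have hpc : p = 1 ∨ p = z := by
      apply sh.cen2 p hp
      intro r hr
      have h1 := congrArg (fun f : MulAut K => ((f r : K) : G)) hpx
      simp only [nmh_apply (h.nor hxt), MulAut.conj_apply] at h1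
      have h2 : (x : G) * r * (x : G)⁻¹ = (p : G) * r * (p : G)⁻¹ := h1
      rw [hxP' r hr, mul_inv_cancel_right, eq_mul_inv_iff_mul_eq] at h2
      exact Subtype.ext h2.symm
    have h3 := exists_of_conj (h.nor hxt) hpx
    have h4 : (p : G)⁻¹ * x ∈ zpowers q := by
      apply h.st.cK
      · have h5 := h.st.Kt (p : G)⁻¹ (K.inv_mem p.2)
        calc (p : G)⁻¹ * x * t = (p : G)⁻¹ * (x * t) := by group
          _ = ((p : G)⁻¹ * t) * x := by rw [hxt]; group
          _ = t * ((p : G)⁻¹ * x) := by rw [h5]; group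
      · exact h3
    have h6 : (x : G) = p * ((p : G)⁻¹ * x) := by group
    rcases hpc with e | e <;> rcases o.Q2 _ h4 with e' | e'
    · left
      apply Subtype.ext
      rw [h6, e', e]; simp
    · right; right; left
      apply Subtype.ext
      rw [h6, e', e]; simp [ht']
    · right; left
      apply Subtype.ext
      rw [h6, e', e]; simp [hz']
    · right; right; right
      apply Subtype.ext
      rw [h6, e', e]
      exact h.comm.symm
  · intro β
    let e := eP z P hPz
    obtain ⟨p, hp⟩ := sh.outP (e.trans (β.trans e.symm))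
    refine ⟨e p, ?_⟩
    ext1 x
    have h1 := congrArg (fun f : MulAut P => e (f (e.symm x))) hp
    simp only [MulAut.conj_apply, map_mul, map_inv] at h1
    have h2 : β x = e p * x * (e p)⁻¹ := by
      have h3 : e ((e.trans (β.trans e.symm)) (e.symm x)) = β x := by
        simp [MulEquiv.trans_apply]
      rw [← h3]
      rw [h1]
      simp
    rw [h2, MulAut.conj_apply]
  · obtain ⟨x, -, hxt, hxz⟩ := o.swap
    have hxH : x ∈ H := (hmemH x).2 (mul_inv_eq_iff_eq_mul.1 hxz)
    exact ⟨⟨x, hxH⟩, Subtype.ext hxt⟩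

end Cfsg.Agent.OddHalf.CaseC
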