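import Cfsg.Agent.OddHalf.CaseM.RankOne
import Cfsg.Agent.OddHalf.M23.Lem
import Cfsg.Agent.S1265
import Cfsg.Agent.SignalizersComponents.PConstrained

/-!
# Case (C) of D8: `C_K(z)^∞` quasisimple (helper971)

`Hyp z t P` describes the group `X = C_G(z)`, `z` a central involution, `P = C_X(t)^∞` quasisimple, `z ∈ P`.

`main`: either some sign character of `X` has value `-1` at `t`, or all the components of `X` are `t`-invariant
and one of them contains `P`.
-/

set_option autoImplicit false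
set_option linter.unusedSectionVars false

namespace Cfsg.Agent.OddHalf.CaseC

open Subgroup Cfsg
open scoped commutatorElement
open Cfsg.Agent.SignalizersComponents.Components
open Cfsg.Agent.Cit (cj mem_cj conj_mem_cj conj_mem_cj_iff cj_mul cj_one)

/-- the hypotheses on `X = C_G(z)` and the involution `t` -/
structure Hyp {X : Type*} [Group X] (z t : X) (P : Subgroup X) : Prop where
  zc : ∀ x, x * z = z * x
  zz : z * z = 1
  z1 : z ≠ 1
  tt : t * t = 1
  t1 : t ≠ 1
  tP : t ∉ P
  zP : z ∈ P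
  Pt : ∀ x ∈ P, x * t = t * x
  Pq : IsQuasisimple P
  Pn : ∀ x, x * t = t * x → ∀ p ∈ P, x * p * x⁻¹ ∈ P
  /-- `P` contains every perfect subgroup of `C(t)` -/
  res : ∀ S : Subgroup X, S ≤ centralizer ({t} : Set X) → ⁅S, S⁆ = S → S ≤ P
  core : pPrimeCore 2 X = ⊥

namespace Hyp

variable {X : Type*} [Group X] {z t : X} {P : Subgroup X}

theorem Pperf (h : Hyp z t P) : ⁅P, P⁆ = P := isPerfect_iff.1 h.Pq.1

theorem P_le_C (h : Hyp z t P) : P ≤ centralizer ({t} : Set X) := fun x hx =>
  mem_centralizer_singleton_iff.2 (h.Pt x hx)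

theorem tinv (h : Hyp z t P) : t⁻¹ = t := inv_eq_of_mul_eq_one_right h.tt

/-- `P` is a component of `C(t)` -/
theorem comp (h : Hyp z t P) : IsComponent (P.subgroupOf (centralizer ({t} : Set X))) := by
  have hn : (P.subgroupOf (centralizer ({t} : Set X))).Normal := by
    refine ⟨fun p hp g => ?_⟩
    rw [mem_subgroupOf] at hp ⊢
    exact h.Pn g (mem_centralizer_singleton_iff.1 g.2) p hp
  exact ⟨hn.isSubnormal, isQuasisimple_of_mulEquiv (subgroupOfEquivOfLe h.P_le_C).symm h.Pq⟩

/-- `P` is nonabelian -/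
theorem Pna (h : Hyp z t P) : ¬ ∀ a ∈ P, ∀ b ∈ P, a * b = b * a := by
  intro hab
  apply quasisimple_not_isMulCommutative h.Pq
  exact ⟨⟨fun a b => Subtype.ext (hab a a.2 b b.2)⟩⟩

/-- a subnormal subgroup of `C(t)` contains `P` or centralises `P` -/
theorem dich (h : Hyp z t P) {S : Subgroup X}
    (hS : (S.subgroupOf (centralizer ({t} : Set X))).IsSubnormal) :
    P ≤ S ∨ ∀ p ∈ P, ∀ s ∈ S, s * t = t * s → p * s = s * p := by
  rcases component_le_or_commutator_eq_bot h.comp hS with h1 | h1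
  · left
    intro p hp
    exact h1 (show (⟨p, h.P_le_C hp⟩ : centralizer ({t} : Set X)) ∈ P.subgroupOf _ from hp)
  · right
    intro p hp s hs hst
    rw [commutator_eq_bot_iff_le_centralizer] at h1
    have h2 := h1 (show (⟨p, h.P_le_C hp⟩ : centralizer ({t} : Set X)) ∈ P.subgroupOf _ from hp)
    have h3 := mem_centralizer_iff.1 h2 ⟨s, mem_centralizer_singleton_iff.2 hst⟩ hs
    exact (congrArg Subtype.val h3).symm

/-- `P` centralises `O₂(X)` -/
theorem comm_pCore [Finite X] (h : Hyp z t P) {p x : X} (hp : p ∈ P) (hx : x ∈ pCore 2 X) :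
    p * x = x * p := by
  have : Fact (Nat.Prime 2) := ⟨Nat.prime_two⟩
  have hn : (pCore 2 X).Normal := Cfsg.Agent.Lib.Cores.pCore_normal 2
  have hp2 : IsPGroup 2 (pCore 2 X) := Cfsg.Agent.Lib.Cores.pCore_isPGroup 2
  have key : ⁅P, pCore 2 X⁆ ≤ ⊥ := by
    refine Cfsg.Agent.OddHalf.M23.commutator_le_of_fix ⊥ P h.tt h.Pperf h.Pt ?_ ?_ _ (pCore 2 X) le_rfl hp2
      bot_le ?_ ?_ ?_ ?_
    · rw [normalizer_eq_top_iff.2 (inferInstance : (⊥ : Subgroup X).Normal)]; exact le_top
    · rw [normalizer_eq_top_iff.2 (inferInstance : (⊥ : Subgroup X).Normal)]; exact mem_top _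
    · rw [normalizer_eq_top_iff.2 (inferInstance : (⊥ : Subgroup X).Normal)]; exact le_top
    · rw [normalizer_eq_top_iff.2 hn]; exact le_top
    · rw [normalizer_eq_top_iff.2 hn]; exact mem_top _
    · intro y hy hyt q hq
      rw [mem_bot] at hyt ⊢
      have hyt' : y * t = t * y := by
        rw [mul_inv_eq_one, mul_inv_eq_iff_eq_mul] at hyt
        exact hyt
      rcases h.dich (S := pCore 2 X) hn.isSubnormal.subgroupOf with h1 | h1
      · exfalso
        have h2 : Group.IsNilpotent P := (hp2.to_le h1).isNilpotent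
        exact quasisimple_not_isSolvable h.Pq inferInstance
      · rw [h1 q hq y hy hyt']
        group
  have h1 := key (commutator_mem_commutator hp hx)
  rw [mem_bot, commutatorElement_def, mul_inv_eq_one, mul_inv_eq_iff_eq_mul] at h1
  exact h1

/-- some component is not centralised by `P` -/
theorem exists_component [Finite X] (h : Hyp z t P) :
    ∃ M : Subgroup X, IsComponent M ∧ ¬ P ≤ centralizer (M : Set X) := by
  by_contra hcon
  push Not at hcon
  apply h.Pna
  have h1 : P ≤ centralizer (generalizedFittingSubgroup X : Set X) := by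
    intro p hp
    have h2 : generalizedFittingSubgroup X ≤ centralizer ({p} : Set X) := by
      unfold generalizedFittingSubgroup
      rw [sup_le_iff]
      constructor
      · rw [layer_le_iff]
        intro M hM x hx
        rw [mem_centralizer_singleton_iff]
        exact mem_centralizer_iff.1 (hcon M hM hp) x hx
      · have : Fact (Nat.Prime 2) := ⟨Nat.prime_two⟩
        rw [Cfsg.Agent.SignalizersComponents.PConstrained.fittingSubgroup_eq_pCore_of_pPrimeCore_eq_bot 2
          h.core]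
        intro x hx
        rw [mem_centralizer_singleton_iff]
        exact (h.comm_pCore hp hx).symm
    rw [mem_centralizer_iff]
    intro x hx
    exact mem_centralizer_singleton_iff.1 (h2 hx)
  have h3 := h1.trans (Cfsg.Agent.S1265.result (G := X))
  intro a ha b hb
  exact (mem_centralizer_iff.1 (h1 ha) b (h3 hb)).symm

/-- the diagonal of two components swapped by `t` is `P` -/
theorem diag (h : Hyp z t P) {M : Subgroup X} (hM : IsComponent M) (hne : cj t M ≠ M) :
    P ≤ M ⊔ cj t M := by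
  obtain ⟨D, hD1, hD2, hD3, hD4, -⟩ := Cfsg.Agent.Cit.Comp.exists_diag hM h.tt hne
  have hDp : ⁅D, D⁆ = D := isPerfect_iff.1 hD4.1
  rcases h.dich hD3.1 with h1 | h1
  · exact h1.trans hD2
  · exfalso
    have h2 := h.res D hD1 hDp
    apply quasisimple_not_isMulCommutative hD4
    refine ⟨⟨fun a b => Subtype.ext ?_⟩⟩
    exact h1 a (h2 a.2) b b.2 (mem_centralizer_singleton_iff.1 (hD1 b.2))

/-- the permutation representation on the components -/
def permHom (X : Type*) [Group X] : X →* Equiv.Perm {M : Subgroup X // IsComponent M} where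
  toFun x :=
    { toFun := fun M => ⟨cj x M.1, Cfsg.Agent.Cit.Comp.isComponent_cj M.2 x⟩
      invFun := fun M => ⟨cj x⁻¹ M.1, Cfsg.Agent.Cit.Comp.isComponent_cj M.2 x⁻¹⟩
      left_inv := fun M => Subtype.ext (by
        change cj x⁻¹ (cj x M.1) = M.1
        rw [← cj_mul, inv_mul_cancel, cj_one])
      right_inv := fun M => Subtype.ext (by
        change cj x (cj x⁻¹ M.1) = M.1
        rw [← cj_mul, mul_inv_cancel, cj_one]) }
  map_one' := by
    ext M : 2
    change cj 1 M.1 = M.1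
    rw [cj_one]
  map_mul' x y := by
    ext M : 2
    change cj (x * y) M.1 = cj x (cj y M.1)
    rw [cj_mul]

theorem permHom_apply (x : X) (M : {M : Subgroup X // IsComponent M}) :
    ((permHom X x M : {M : Subgroup X // IsComponent M}) : Subgroup X) = cj x M.1 := rfl

/-- two components swapped by `t`: sign of the permutation of the components -/
theorem exists_sign [Finite X] (h : Hyp z t P) {M : Subgroup X} (hM : IsComponent M)
    (hne : cj t M ≠ M) : ∃ lam : X →* ℤˣ, lam t = -1 := by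
  classical
  have hfin : Finite {M : Subgroup X // IsComponent M} := inferInstance
  have : Fintype {M : Subgroup X // IsComponent M} := Fintype.ofFinite _
  refine ⟨Equiv.Perm.sign.comp (permHom X), ?_⟩
  have hMt : IsComponent (cj t M) := Cfsg.Agent.Cit.Comp.isComponent_cj hM t
  have htt : ∀ N : Subgroup X, cj t (cj t N) = N := fun N => by rw [← cj_mul, h.tt, cj_one]
  have key : permHom X t = Equiv.swap ⟨M, hM⟩ ⟨cj t M, hMt⟩ := by
    ext N : 2
    rw [permHom_apply]
    by_cases h1 : N = ⟨M, hM⟩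
    · rw [h1, Equiv.swap_apply_left]
    by_cases h2 : N = ⟨cj t M, hMt⟩
    · rw [h2, Equiv.swap_apply_right]
      exact htt M
    rw [Equiv.swap_apply_of_ne_of_ne h1 h2]
    by_contra h3
    have h1' : N.1 ≠ M := fun e => h1 (Subtype.ext e)
    have h2' : N.1 ≠ cj t M := fun e => h2 (Subtype.ext e)
    have hNt := Cfsg.Agent.Cit.Comp.isComponent_cj N.2 t
    have h4 : cj t N.1 ≠ M := fun e => h2' (by rw [← e, htt])
    have h5 : cj t N.1 ≠ cj t M := fun e => h1' (by rw [← htt N.1, e, htt])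
    apply h.Pna
    intro a ha b hb
    have h6 := h.diag hM hne ha
    have h7 := h.diag N.2 h3 hb
    have h8 : M ⊔ cj t M ≤ centralizer ((N.1 ⊔ cj t N.1 : Subgroup X) : Set X) := by
      have h9 : ∀ A B : Subgroup X, IsComponent A → IsComponent B → A ≠ B →
          ∀ b ∈ B, ∀ a ∈ A, b * a = a * b := fun A B hA hB hAB b hb a ha =>
        (Cfsg.Agent.Cit.Comp.comm_of_ne hA hB hAB ha hb).symm
      have h10 : ∀ A : Subgroup X, IsComponent A → N.1 ≠ A → cj t N.1 ≠ A →
          A ≤ centralizer ((N.1 ⊔ cj t N.1 : Subgroup X) : Set X) := by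
        intro A hA hA1 hA2 a ha
        have h11 : N.1 ⊔ cj t N.1 ≤ centralizer ({a} : Set X) := by
          rw [sup_le_iff]
          exact ⟨fun b hb => mem_centralizer_singleton_iff.2 (h9 A N.1 hA N.2 hA1.symm b hb a ha),
            fun b hb => mem_centralizer_singleton_iff.2 (h9 A _ hA hNt hA2.symm b hb a ha)⟩
        rw [mem_centralizer_iff]
        intro b hb
        exact mem_centralizer_singleton_iff.1 (h11 hb)
      exact sup_le (h10 M hM h1' h4) (h10 _ hMt h2' h5)
    exact (mem_centralizer_iff.1 (h8 h6) b h7).symm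
  rw [MonoidHom.comp_apply, key, Equiv.Perm.sign_swap]
  intro e
  exact hne (congrArg Subtype.val e).symm

/-- the centre of a component lies in `O₂(X)` -/
theorem comm_center [Finite X] (h : Hyp z t P) {M : Subgroup X} (hM : IsComponent M) {p x : X}
    (hp : p ∈ P) (hx : x ∈ M) (hxM : ∀ y ∈ M, x * y = y * x) : p * x = x * p := by
  apply h.comm_pCore hp
  have : Fact (Nat.Prime 2) := ⟨Nat.prime_two⟩
  rw [← Cfsg.Agent.SignalizersComponents.PConstrained.fittingSubgroup_eq_pCore_of_pPrimeCore_eq_bot 2 h.core]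
  -- the centre of the layer
  have hlay : (layer X).Normal := layer_normal X
  have hn : ((center (layer X)).map (layer X).subtype).Normal := by
    have : (center (layer X)).Characteristic := inferInstance
    exact ConjAct.normal_of_characteristic_of_normal
  have hnil : Group.IsNilpotent ((center (layer X)).map (layer X).subtype) := by
    have e := (center (layer X)).equivMapOfInjective (layer X).subtype (layer X).subtype_injective
    have : Group.IsNilpotent (center (layer X)) :=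
      @CommGroup.isNilpotent (center (layer X))
        { (inferInstance : Group (center (layer X))) with
          mul_comm := fun a b => Subtype.ext ((mem_center_iff.1 b.2 a.1)) }
    exact (Group.isNilpotent_congr e).1 this
  have h1 : (center (layer X)).map (layer X).subtype ≤ fittingSubgroup X := le_sSup ⟨hn, hnil⟩
  apply h1
  refine ⟨⟨x, component_le_layer hM hx⟩, ?_, rfl⟩
  show _ ∈ center (layer X)
  rw [mem_center_iff]
  rintro ⟨y, hy⟩
  apply Subtype.ext
  change y * x = x * y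
  have h2 : layer X ≤ centralizer ({x} : Set X) := by
    rw [layer_le_iff]
    intro N hN y hy
    rw [mem_centralizer_singleton_iff]
    by_cases hNM : N = M
    · rw [hNM] at hy
      exact (hxM y hy).symm
    · exact Cfsg.Agent.Cit.Comp.comm_of_ne hN hM hNM hy hx
  exact mem_centralizer_singleton_iff.1 (h2 hy)

/-- `t` centralises some noncentral element of `M` modulo the centre -/
theorem exists_fixed [Finite X] (h : Hyp z t P) {M : Subgroup X} (hM : IsComponent M)
    (htM : cj t M = M) : ∃ y ∈ M, (¬ ∀ x ∈ M, y * x = x * y) ∧ ∃ c ∈ M, (∀ x ∈ M, c * x = x * c) ∧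
      t * y * t⁻¹ = y * c := by
  have htN : t ∈ normalizer (M : Set X) := by
    rw [Cfsg.Agent.Cit.mem_normalizer_iff_cj]; exact htM
  let τ : MulAut M := M.normalizerMonoidHom ⟨t, htN⟩
  have hτ : ∀ x : M, ((τ x : M) : X) = t * x * t⁻¹ := fun x => by
    rw [normalizerMonoidHom_apply_apply_coe]
  have hττ : ∀ x : M, τ (τ x) = x := by
    intro x
    apply Subtype.ext
    rw [hτ, hτ]
    calc t * (t * x * t⁻¹) * t⁻¹ = (t * t) * x * (t * t)⁻¹ := by group
      _ = x := by rw [h.tt]; group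
  have hcen : center M ≤ (center M).comap τ.toMonoidHom := by
    intro x hx
    have : (center M).Characteristic := inferInstance
    rw [← this.fixed τ] at hx
    exact hx
  let φ : M ⧸ center M →* M ⧸ center M := QuotientGroup.map (center M) (center M) τ.toMonoidHom hcen
  have hφ : ∀ x : M, φ (x : M ⧸ center M) = ((τ x : M) : M ⧸ center M) := fun x => rfl
  by_contra hcon
  push Not at hcon
  have hfpf : MonoidHom.FixedPointFree φ := by
    intro g
    induction g using QuotientGroup.induction_on with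
    | _ y =>
    intro hg
    rw [hφ, eq_comm, QuotientGroup.eq] at hg
    rw [QuotientGroup.eq_one_iff]
    by_contra hy
    have h1 : ¬ ∀ x ∈ M, (y : X) * x = x * y := by
      intro h2
      apply hy
      rw [mem_center_iff]
      intro x
      exact Subtype.ext (h2 x x.2).symm
    refine hcon y y.2 ?_ ((y : X)⁻¹ * (t * y * t⁻¹)) ?_ ?_ (by group)
    · by_contra h2
      push Not at h2
      exact h1 h2
    · have := (y⁻¹ * τ y).2
      rw [Subgroup.coe_mul, Subgroup.coe_inv, hτ] at this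
      exact this
    · intro x hx
      have h3 := mem_center_iff.1 hg ⟨x, hx⟩
      have h4 := congrArg Subtype.val h3
      simp only [Subgroup.coe_mul, Subgroup.coe_inv, hτ] at h4
      exact h4.symm
  have hinv : Function.Involutive φ := by
    intro g
    induction g using QuotientGroup.induction_on with
    | _ y => rw [hφ, hφ, hττ]
  have hab := hfpf.commute_all_of_involutive hinv
  have hs := hM.2.2
  -- `M / Z(M)` is abelian, so `M' ≤ Z(M)`, and `M` is perfect
  apply quasisimple_not_isMulCommutative hM.2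
  have hp : commutator M = ⊤ := hM.2.1.commutator_eq_top
  have h5 : commutator M ≤ center M := by
    rw [commutator_def, commutator_le]
    intro a _ b _
    rw [← QuotientGroup.eq_one_iff, commutatorElement_def]
    have h6 := hab (a : M ⧸ center M) (b : M ⧸ center M)
    rw [QuotientGroup.mk_mul, QuotientGroup.mk_mul, QuotientGroup.mk_mul, h6.eq, QuotientGroup.mk_inv,
      QuotientGroup.mk_inv]
    group
  rw [hp] at h5
  refine ⟨⟨fun a b => ?_⟩⟩
  exact (mem_center_iff.1 (h5 (mem_top b)) a)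

/-- `P` normalises the components -/
theorem cj_eq [Finite X] (h : Hyp z t P) {M : Subgroup X} (hM : IsComponent M)
    (htM : cj t M = M) : ∀ p ∈ P, cj p M = M := by
  have hlay : (layer X).Normal := layer_normal X
  rcases h.dich (S := layer X) hlay.isSubnormal.subgroupOf with h1 | h1
  · intro p hp
    exact Cfsg.Agent.Cit.mem_normalizer_iff_cj.1 (layer_le_normalizer_component hM (h1 hp))
  obtain ⟨y, hyM, hyc, c, hcM, hcc, hyt⟩ := h.exists_fixed hM htM
  have hpc : ∀ p ∈ P, p * c = c * p := fun p hp => h.comm_center hM hp hcM hcc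
  have hyL : y ∈ layer X := component_le_layer hM hyM
  -- `p y p⁻¹ y⁻¹ ∈ C(t) ∩ E(X)`
  have hcom : ∀ p ∈ P, p * y * p⁻¹ * y⁻¹ * t = t * (p * y * p⁻¹ * y⁻¹) := by
    intro p hp
    have h2 : t * p * t⁻¹ = p := by rw [← h.Pt p hp, mul_inv_cancel_right]
    have h3 : t * (p * y * p⁻¹ * y⁻¹) * t⁻¹ = p * y * p⁻¹ * y⁻¹ := by
      calc t * (p * y * p⁻¹ * y⁻¹) * t⁻¹
          = (t * p * t⁻¹) * (t * y * t⁻¹) * (t * p * t⁻¹)⁻¹ * (t * y * t⁻¹)⁻¹ := by group
        _ = p * (y * c) * p⁻¹ * (y * c)⁻¹ := by rw [h2, hyt]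
        _ = p * y * (c * p⁻¹) * c⁻¹ * y⁻¹ := by group
        _ = p * y * (p⁻¹ * c) * c⁻¹ * y⁻¹ := by rw [hpc p⁻¹ (P.inv_mem hp)]
        _ = p * y * p⁻¹ * y⁻¹ := by group
    rw [mul_inv_eq_iff_eq_mul] at h3
    exact h3.symm
  have hmem : ∀ p ∈ P, p * y * p⁻¹ * y⁻¹ ∈ layer X := fun p hp =>
    (layer X).mul_mem (hlay.conj_mem y hyL p) ((layer X).inv_mem hyL)
  have hPc : ∀ p ∈ P, ∀ q ∈ P, q * (p * y * p⁻¹ * y⁻¹) = p * y * p⁻¹ * y⁻¹ * q := fun p hp q hq =>
    h1 q hq _ (hmem p hp) (hcom p hp)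
  let f : P →* X :=
    { toFun := fun p => ((p : X) * y * (p : X)⁻¹ * y⁻¹)⁻¹
      map_one' := by simp
      map_mul' := fun a b => by
        have h2 := hPc b b.2 a a.2
        rw [← mul_inv_rev]
        congr 1
        simp only [Subgroup.coe_mul]
        calc (a : X) * b * y * ((a : X) * b)⁻¹ * y⁻¹
            = a * (b * y * (b : X)⁻¹ * y⁻¹) * (y * (a : X)⁻¹ * y⁻¹) := by group
          _ = (b * y * (b : X)⁻¹ * y⁻¹) * a * (y * (a : X)⁻¹ * y⁻¹) := by rw [h2]
          _ = (b * y * (b : X)⁻¹ * y⁻¹) * (a * y * (a : X)⁻¹ * y⁻¹) := by group }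
  have hf : ∀ p : P, f p = ((p : X) * y * (p : X)⁻¹ * y⁻¹)⁻¹ := fun _ => rfl
  have hrt : f.range ≤ centralizer ({t} : Set X) := by
    rintro _ ⟨p, rfl⟩
    rw [hf]
    exact (centralizer ({t} : Set X)).inv_mem (mem_centralizer_singleton_iff.2 (hcom p p.2))
  have hrp : ⁅f.range, f.range⁆ = f.range := by
    have h2 : commutator P = ⊤ := h.Pq.1.commutator_eq_top
    rw [MonoidHom.range_eq_map, ← map_commutator, ← _root_.commutator_def, h2]
  have hrP : f.range ≤ P := h.res _ hrt hrp
  have hrb : f.range = ⊥ := by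
    rw [← hrp, commutator_eq_bot_iff_le_centralizer]
    intro a ha
    rw [mem_centralizer_iff]
    rintro _ ⟨q, rfl⟩
    have h3 := hPc q q.2 a (hrP ha)
    rw [hf, inv_mul_eq_iff_eq_mul, ← mul_assoc, ← h3]
    group
  have hyP : ∀ p ∈ P, p * y = y * p := by
    intro p hp
    have h2 : f ⟨p, hp⟩ ∈ f.range := ⟨_, rfl⟩
    rw [hrb, mem_bot, hf, inv_eq_one] at h2
    rw [mul_inv_eq_one, mul_inv_eq_iff_eq_mul] at h2
    exact h2
  intro p hp
  by_contra hne
  apply hyc
  intro x hx
  have h2 : y ∈ cj p M := by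
    have h3 := conj_mem_cj (g := p) hyM
    rwa [hyP p hp, mul_inv_cancel_right] at h3
  exact Cfsg.Agent.Cit.Comp.comm_of_ne (Cfsg.Agent.Cit.Comp.isComponent_cj hM p) hM hne h2 hx

/-- `P` lies in the component which it does not centralise -/
theorem P_le [Finite X] (h : Hyp z t P) {M : Subgroup X} (hM : IsComponent M) (htM : cj t M = M)
    (hSch : P ≤ M ⊔ centralizer (M : Set X)) (hnc : ¬ P ≤ centralizer (M : Set X)) : P ≤ M := by
  set Y : Subgroup X := centralizer (M : Set X) with hY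
  have hMY : ∀ x ∈ M, ∀ y ∈ Y, x * y = y * x := fun x hx y hy => mem_centralizer_iff.1 hy x hx
  have htm : ∀ m ∈ M, t * m * t⁻¹ ∈ M := fun m hm => by
    have := conj_mem_cj (g := t) hm
    rwa [htM] at this
  have hcN : ∀ g, cj g M = M → ∀ c ∈ Y, g * c * g⁻¹ ∈ Y := by
    intro g hg c hc
    rw [hY, mem_centralizer_iff]
    intro m hm
    have h1 : g⁻¹ * m * g ∈ M := by rw [← mem_cj, hg]; exact hm
    have h2 := hMY _ h1 c hc
    calc m * (g * c * g⁻¹) = g * (g⁻¹ * m * g * c) * g⁻¹ := by group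
      _ = g * (c * (g⁻¹ * m * g)) * g⁻¹ := by rw [h2]
      _ = g * c * g⁻¹ * m := by group
  rcases h.dich (S := M) hM.1.subgroupOf with h1 | h1
  · exact h1
  exfalso
  apply hnc
  -- decomposition
  have hdec : ∀ p ∈ P, ∃ m ∈ M, ∃ c ∈ Y, m * c = p ∧ ∃ e ∈ M, e ∈ Y ∧ t * m * t⁻¹ = m * e := by
    intro p hp
    obtain ⟨m, hm, c, hc, hmc⟩ := Cfsg.Agent.Cit.Comp.mem_sup_comm hMY (hSch hp)
    refine ⟨m, hm, c, hc, hmc, m⁻¹ * (t * m * t⁻¹), M.mul_mem (M.inv_mem hm) (htm m hm), ?_, by group⟩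
    have h2 : (t * m * t⁻¹) * (t * c * t⁻¹) = m * c := by
      have h3 := h.Pt p hp
      rw [← hmc] at h3
      calc (t * m * t⁻¹) * (t * c * t⁻¹) = t * (m * c) * t⁻¹ := by group
        _ = m * c := by rw [← h3, mul_inv_cancel_right]
    have h4 : m⁻¹ * (t * m * t⁻¹) = c * (t * c * t⁻¹)⁻¹ := by
      rw [eq_mul_inv_iff_mul_eq, mul_assoc, h2, inv_mul_cancel_left]
    rw [h4]
    exact Y.mul_mem hc (Y.inv_mem (hcN t htM c hc))
  set U : Subgroup X := (M ⊓ centralizer ({t} : Set X)) ⊔ Y with hU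
  have hUd : ∀ x ∈ M ⊓ centralizer ({t} : Set X), ∀ y ∈ Y, x * y = y * x := fun x hx y hy =>
    hMY x hx.1 y hy
  -- `⁅P, P⁆ ≤ U`
  have hPU : ⁅P, P⁆ ≤ U := by
    rw [commutator_le]
    intro p hp q hq
    obtain ⟨m, hm, c, hc, rfl, e, heM, heY, hme⟩ := hdec p hp
    obtain ⟨n, hn, d, hd, rfl, f, hfM, hfY, hnf⟩ := hdec q hq
    have cmd : Commute m d := hMY m hm d hd
    have cnc : Commute n c := hMY n hn c hc
    have h2 : ⁅m * c, n * d⁆ = ⁅m, n⁆ * ⁅c, d⁆ := by
      rw [commutatorElement_def, commutatorElement_def, commutatorElement_def]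
      calc m * c * (n * d) * (m * c)⁻¹ * (n * d)⁻¹
          = m * (c * n) * d * c⁻¹ * m⁻¹ * d⁻¹ * n⁻¹ := by group
        _ = m * (n * c) * d * c⁻¹ * m⁻¹ * d⁻¹ * n⁻¹ := by rw [cnc.eq]
        _ = m * n * (c * d * c⁻¹) * (m⁻¹ * d⁻¹) * n⁻¹ := by group
        _ = m * n * (c * d * c⁻¹) * (d⁻¹ * m⁻¹) * n⁻¹ := by rw [(cmd.inv_inv).eq]
        _ = m * n * ((c * d * c⁻¹ * d⁻¹) * (m⁻¹ * n⁻¹)) := by group
        _ = m * n * ((m⁻¹ * n⁻¹) * (c * d * c⁻¹ * d⁻¹)) := by
          have h3 : (m⁻¹ * n⁻¹) * (c * d * c⁻¹ * d⁻¹) = (c * d * c⁻¹ * d⁻¹) * (m⁻¹ * n⁻¹) :=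
            hMY _ (M.mul_mem (M.inv_mem hm) (M.inv_mem hn)) _
              (Y.mul_mem (Y.mul_mem (Y.mul_mem hc hd) (Y.inv_mem hc)) (Y.inv_mem hd))
          rw [h3]
        _ = m * n * m⁻¹ * n⁻¹ * (c * d * c⁻¹ * d⁻¹) := by group
    rw [h2]
    refine U.mul_mem (mem_sup_left ⟨?_, ?_⟩) (mem_sup_right ?_)
    · rw [commutatorElement_def]
      exact M.mul_mem (M.mul_mem (M.mul_mem hm hn) (M.inv_mem hm)) (M.inv_mem hn)
    · refine mem_centralizer_singleton_iff.2 ?_
      have h3 : t * ⁅m, n⁆ * t⁻¹ = ⁅m, n⁆ := by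
        rw [commutatorElement_def]
        have cef : Commute e f := hMY e heM f hfY
        have cem : Commute m e := hMY m hm e heY
        have cen : Commute n e := hMY n hn e heY
        have cfm : Commute m f := hMY m hm f hfY
        have cfn : Commute n f := hMY n hn f hfY
        calc t * (m * n * m⁻¹ * n⁻¹) * t⁻¹
            = (t * m * t⁻¹) * (t * n * t⁻¹) * (t * m * t⁻¹)⁻¹ * (t * n * t⁻¹)⁻¹ := by group
          _ = m * e * (n * f) * (m * e)⁻¹ * (n * f)⁻¹ := by rw [hme, hnf]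
          _ = m * (e * n) * f * (e⁻¹ * m⁻¹) * (f⁻¹ * n⁻¹) := by group
          _ = m * (n * e) * f * (e⁻¹ * m⁻¹) * (f⁻¹ * n⁻¹) := by rw [cen.eq]
          _ = m * n * (e * f) * e⁻¹ * (m⁻¹ * f⁻¹) * n⁻¹ := by group
          _ = m * n * (f * e) * e⁻¹ * (f⁻¹ * m⁻¹) * n⁻¹ := by rw [cef.eq, (cfm.inv_inv).eq]
          _ = m * n * m⁻¹ * n⁻¹ := by group
      rw [mul_inv_eq_iff_eq_mul] at h3
      exact h3.symm
    · rw [commutatorElement_def]
      exact Y.mul_mem (Y.mul_mem (Y.mul_mem hc hd) (Y.inv_mem hc)) (Y.inv_mem hd)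
  have hPM := h.cj_eq hM htM
  have h2 : ⁅⁅P, P⁆, P⁆ ≤ Y := by
    rw [commutator_le]
    intro x hx p hp
    obtain ⟨a, ha, c, hc, rfl⟩ := Cfsg.Agent.Cit.Comp.mem_sup_comm hUd (hPU hx)
    have hpa : p * a = a * p := h1 p hp a ha.1 (mem_centralizer_singleton_iff.1 ha.2)
    have cpa : Commute p a := hpa
    have h3 : ⁅a * c, p⁆ = a * (c * (p * c⁻¹ * p⁻¹)) * a⁻¹ := by
      rw [commutatorElement_def]
      calc a * c * p * (a * c)⁻¹ * p⁻¹ = a * c * p * c⁻¹ * (a⁻¹ * p⁻¹) := by group
        _ = a * c * p * c⁻¹ * (p⁻¹ * a⁻¹) := by rw [(cpa.inv_inv).eq]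
        _ = a * (c * (p * c⁻¹ * p⁻¹)) * a⁻¹ := by group
    have h4 : c * (p * c⁻¹ * p⁻¹) ∈ Y := Y.mul_mem hc (hcN p (hPM p hp) _ (Y.inv_mem hc))
    rw [h3, hMY a ha.1 _ h4, mul_inv_cancel_right]
    exact h4
  rw [h.Pperf, h.Pperf] at h2
  exact h2

/-- **the theorem** -/
theorem main [Finite X] (h : Hyp z t P)
    (hSch : ∀ M : Subgroup X, IsComponent M → (∀ p ∈ P, cj p M = M) →
      P ≤ M ⊔ centralizer (M : Set X)) :
    (∃ lam : X →* ℤˣ, lam t = -1) ∨
      ((∀ N : Subgroup X, IsComponent N → cj t N = N) ∧ ∃ M : Subgroup X, IsComponent M ∧ P ≤ M) := by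
  by_cases hall : ∀ N : Subgroup X, IsComponent N → cj t N = N
  · right
    refine ⟨hall, ?_⟩
    obtain ⟨M, hM, hnc⟩ := h.exists_component
    exact ⟨M, hM, h.P_le hM (hall M hM) (hSch M hM (h.cj_eq hM (hall M hM))) hnc⟩
  · left
    push Not at hall
    obtain ⟨N, hN, hne⟩ := hall
    exact h.exists_sign hN hne

end Hyp

end Cfsg.Agent.OddHalf.CaseC
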